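import Cfsg.Agent.Lib.Transfer.ConjRankThree.Basic
import Cfsg.Agent.Lib.Transfer.ConjRankThree.TIChar
import Cfsg.Agent.S0204
import Cfsg.Agent.S0215
import Cfsg.Agent.S2202
import Cfsg.Agent.S2507
import Cfsg.Agent.S4355
import Cfsg.Agent.Lib.Fus.CTSimpleLinear
import Cfsg.Agent.Lib.Transfer.NormCyc.Abelian

/-!
Simple groups of conjugate type rank three.
-/

set_option autoImplicit false
set_option maxHeartbeats 1000000

open scoped Pointwise

universe u

namespace Cfsg.Agent.Transfer.ConjRankThree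

open Cfsg Cfsg.Agent Cfsg.Agent.Transfer.ClassDisconnected

variable {G : Type u} [Group G] [Finite G]

theorem exists_involution_mem {K : Subgroup G} (h : 2 ∣ Nat.card K) : ∃ t ∈ K, orderOf t = 2 := by
  haveI : Fact (Nat.Prime 2) := ⟨Nat.prime_two⟩
  obtain ⟨⟨t, ht⟩, ho⟩ := exists_prime_orderOf_dvd_card' (G := K) 2 h
  exact ⟨t, ht, by rwa [Subgroup.orderOf_mk] at ho⟩

theorem ne_one_of_two {t : G} (h : orderOf t = 2) : t ≠ 1 := fun e => by
  rw [e, orderOf_one] at h
  omega

variable [IsSimpleGroup G]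

/-- All involution centralisers abelian: the linear groups in characteristic two. -/
theorem exists_psl (hna : ¬ IsMulCommutative G)
    (h : ∀ t : G, orderOf t = 2 → IsMulCommutative ↥(Subgroup.centralizer ({t} : Set G))) :
    ∃ (m : ℕ) (F : Type) (_ : Field F) (_ : Fintype F), 2 ≤ m ∧ Fintype.card F = 2 ^ m ∧
      Nonempty (G ≃* Matrix.ProjectiveSpecialLinearGroup (Fin 2) F) := by
  classical
  haveI : Fact (Nat.Prime 2) := ⟨Nat.prime_two⟩
  have hnc : ¬ IsCyclic G := fun hc => hna ⟨⟨(IsCyclic.commGroup (α := G)).mul_comm⟩⟩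
  obtain ⟨E, hE⟩ := Cfsg.Agent.S0204.result hnc
  have hE4 : Nat.card E = 4 := hE.card_four
  have heven : Even (Nat.card G) :=
    even_iff_two_dvd.2 ((by rw [hE4]; norm_num : 2 ∣ Nat.card E).trans E.card_subgroup_dvd_card)
  rcases Cfsg.Agent.S2202.result heven h with hcyc | hnorm | ⟨F, hFld, hFin, A, hA, hAfin, hchar, hAodd, ⟨e⟩⟩
  · exfalso
    obtain ⟨P, hP⟩ := (IsPGroup.of_card (p := 2) (n := 2) (by rw [hE4]; norm_num) : IsPGroup 2 E).exists_le_sylow
    haveI := hcyc P
    haveI : IsCyclic E := isCyclic_of_injective (Subgroup.inclusion hP) (Subgroup.inclusion_injective hP)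
    exact hE.not_isCyclic inferInstance
  · exfalso
    obtain ⟨P⟩ : Nonempty (Sylow 2 G) := inferInstance
    rcases (hnorm P).eq_bot_or_eq_top with hb | ht
    · exact P.ne_bot_of_dvd_card (even_iff_two_dvd.1 heven) hb
    · haveI : Nontrivial G := IsSimpleGroup.toNontrivial
      have hG : IsPGroup 2 G := by
        obtain ⟨n, hn⟩ := IsPGroup.iff_card.1 P.isPGroup'
        rw [ht, Subgroup.card_top] at hn
        exact IsPGroup.of_card hn
      haveI := hG.center_nontrivial
      obtain ⟨⟨z, hz⟩, hz1⟩ := exists_ne (1 : Subgroup.center G)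
      exact not_mem_center hna (fun e => hz1 (Subtype.ext e)) hz
  let f : G →* Matrix.SpecialLinearGroup (Fin 2) F := (MonoidHom.fst _ _).comp e.toMonoidHom
  have hfsurj : Function.Surjective f := fun z => ⟨e.symm (z, 1), by simp [f]⟩
  have hfinj : Function.Injective f := by
    rcases (MonoidHom.normal_ker f).eq_bot_or_eq_top with hb | ht
    · exact (MonoidHom.ker_eq_bot_iff f).1 hb
    · exfalso
      haveI : Subsingleton (Matrix.SpecialLinearGroup (Fin 2) F) := ⟨fun p q => by
        obtain ⟨g, rfl⟩ := hfsurj p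
        obtain ⟨g', rfl⟩ := hfsurj q
        rw [MonoidHom.mem_ker.1 (ht ▸ Subgroup.mem_top g), MonoidHom.mem_ker.1 (ht ▸ Subgroup.mem_top g')]⟩
      refine hna ⟨⟨fun p q => e.injective ?_⟩⟩
      rw [map_mul, map_mul]
      exact Prod.ext (Subsingleton.elim _ _) (mul_comm _ _)
  let e₁ : G ≃* Matrix.SpecialLinearGroup (Fin 2) F := MulEquiv.ofBijective f ⟨hfinj, hfsurj⟩
  haveI := hchar
  have h2 : (2 : F) = 0 := CharTwo.two_eq_zero
  obtain ⟨n, hn2, hF⟩ := FiniteField.card F 2
  have hm : 2 ≤ (n : ℕ) := by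
    by_contra hlt
    have hn0 : 0 < (n : ℕ) := n.pos
    have h1 : (n : ℕ) = 1 := by omega
    rw [h1, pow_one] at hF
    -- six elements: not simple
    have hdvd : Nat.card G ∣ 6 :=
      (Nat.card_congr e₁.toEquiv) ▸ Transfer.NormCyc.card_sl_two_dvd_six hF
    have hG6 : Nat.card G = 6 := by
      have hle := Nat.le_of_dvd (by norm_num) hdvd
      have h2 := even_iff_two_dvd.1 heven
      have hp := card_not_prime hna
      have hpos : 0 < Nat.card G := Nat.card_pos
      interval_cases hk : Nat.card G <;> simp_all (config := { decide := true })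
    haveI : Fact (Nat.Prime 3) := ⟨Nat.prime_three⟩
    obtain ⟨z, hz⟩ := exists_prime_orderOf_dvd_card' (G := G) 3 (by rw [hG6]; norm_num)
    have hidx : (Subgroup.zpowers z).index = 2 := by
      have h3 := (Subgroup.zpowers z).card_mul_index
      rw [Nat.card_zpowers, hz, hG6] at h3
      omega
    rcases (Subgroup.normal_of_index_eq_two hidx).eq_bot_or_eq_top with hb | ht
    · rw [Subgroup.zpowers_eq_bot] at hb
      rw [hb, orderOf_one] at hz
      omega
    · rw [ht, Subgroup.index_top] at hidx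
      omega
  refine ⟨n, F, hFld, hFin, hm, hF, ⟨?_⟩⟩
  exact e₁.trans ((QuotientGroup.quotientBot (G := Matrix.SpecialLinearGroup (Fin 2) F)).symm.trans
    (QuotientGroup.quotientMulEquivOfEq (Fus.CTSimple.center_eq_bot_of_two h2).symm))

/-- The class sizes of the nontrivial elements in the linear groups. -/
theorem cix_psl (hna : ¬ IsMulCommutative G) {m : ℕ} {F : Type} [Field F] [Fintype F] (hm : 2 ≤ m)
    (hF : Fintype.card F = 2 ^ m) (e : G ≃* Matrix.ProjectiveSpecialLinearGroup (Fin 2) F) :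
    {k : ℕ | ∃ w : G, w ≠ 1 ∧ k = cix w} =
      {Fintype.card F * (Fintype.card F - 1), Fintype.card F ^ 2 - 1, Fintype.card F * (Fintype.card F + 1)} := by
  set q := Fintype.card F with hq
  have h4 : 4 ≤ q := by
    rw [hF]
    exact le_trans (by norm_num) (Nat.pow_le_pow_right (by norm_num : 0 < 2) hm)
  have h := Cfsg.Agent.S2507.result (F := F) (by rw [← hq, hF]; exact dvd_pow_self 2 (by omega)) h4
  have htr : ∀ w : G, (Subgroup.centralizer ({e w} : Set (Matrix.ProjectiveSpecialLinearGroup (Fin 2) F))).index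
      = cix w := by
    intro w
    rw [cix, ← Subgroup.index_map_equiv (Subgroup.centralizer ({w} : Set G)) e]
    congr 1
    ext p
    rw [Subgroup.mem_map]
    refine ⟨fun hp => ⟨e.symm p, ?_, e.apply_symm_apply p⟩, ?_⟩
    · rw [mem_cent] at hp ⊢
      have := hp.map e.symm.toMonoidHom
      simpa using this
    · rintro ⟨g, hg, rfl⟩
      rw [mem_cent] at hg ⊢
      exact hg.map e.toMonoidHom
  ext k
  constructor
  · rintro ⟨w, hw, rfl⟩
    have h1 := (Set.ext_iff.1 h (cix w)).1 ⟨e w, htr w⟩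
    rcases h1 with h1 | h1
    · exact absurd h1 (cix_ne_one hna hw)
    · exact h1
  · intro hk
    obtain ⟨p, hp⟩ := (Set.ext_iff.1 h k).2 (Set.mem_insert_of_mem _ hk)
    have hk1 : k ≠ 1 := by
      rcases hk with rfl | rfl | rfl
      · nlinarith [Nat.sub_add_cancel (show 1 ≤ q by omega)]
      · have : 16 ≤ q ^ 2 := by nlinarith
        omega
      · nlinarith
    refine ⟨e.symm p, fun h1 => hk1 ?_, ?_⟩
    · have hp1 : p = 1 := by rw [← e.apply_symm_apply p, h1, map_one]
      subst hp1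
      exact hp.symm.trans (Subgroup.index_eq_one.2 (by simp [Subgroup.centralizer_eq_top_iff_subset]))
    · rw [← htr, MulEquiv.apply_symm_apply]
      exact hp.symm

variable {a b c : ℕ}

theorem Tri.not_psl (hna : ¬ IsMulCommutative G) (T : Tri G a b c) :
    ¬ ∀ t : G, orderOf t = 2 → IsMulCommutative ↥(Subgroup.centralizer ({t} : Set G)) := by
  intro h
  obtain ⟨m, F, hFld, hFin, hm, hF, ⟨e⟩⟩ := exists_psl hna h
  have hs := cix_psl hna hm hF e
  set q := Fintype.card F with hq
  have h4 : 4 ≤ q := by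
    rw [hF]
    exact le_trans (by norm_num) (Nat.pow_le_pow_right (by norm_num : 0 < 2) hm)
  obtain ⟨x, hx1, hx⟩ := T.exA
  obtain ⟨y, hy1, hy⟩ := T.exB
  have hmA := (Set.ext_iff.1 hs a).1 ⟨x, hx1, hx.symm⟩
  have hmB := (Set.ext_iff.1 hs b).1 ⟨y, hy1, hy.symm⟩
  have hne := T.ne_ab
  have hg : ∀ d : ℕ, 2 ≤ d → d ∣ a → d ∣ b → False := fun d hd h1 h2 => by
    have := Nat.eq_one_of_dvd_coprimes T.cop h1 h2
    omega
  have e2 : q ^ 2 - 1 = (q - 1) * (q + 1) := by
    rw [mul_comm, ← Nat.sq_sub_sq, one_pow]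
  rcases hmA with rfl | rfl | rfl <;> rcases hmB with rfl | rfl | rfl
  · exact hne rfl
  · exact hg (q - 1) (by omega) (dvd_mul_left _ _) (e2 ▸ dvd_mul_right _ _)
  · exact hg q (by omega) (dvd_mul_right _ _) (dvd_mul_right _ _)
  · exact hg (q - 1) (by omega) (e2 ▸ dvd_mul_right _ _) (dvd_mul_left _ _)
  · exact hne rfl
  · exact hg (q + 1) (by omega) (e2 ▸ dvd_mul_left _ _) (dvd_mul_left _ _)
  · exact hg q (by omega) (dvd_mul_right _ _) (dvd_mul_right _ _)
  · exact hg (q + 1) (by omega) (dvd_mul_left _ _) (e2 ▸ dvd_mul_left _ _)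
  · exact hne rfl

theorem Tri.odd_a (hna : ¬ IsMulCommutative G) (T : Tri G a b c) : ¬ 2 ∣ a := fun h2 =>
  T.not_psl hna fun t ht => ⟨⟨fun p q => Subtype.ext
    ((T.cB hna (T.typeB hna (ne_one_of_two ht) (ht.symm ▸ h2))).1 p p.2 q q.2)⟩⟩

theorem Tri.isolated (hna : ¬ IsMulCommutative G) (T : Tri G a b c) {x : G} (hx : cix x = a) {u : G}
    (hu : u⁻¹ * x * u ∈ Subgroup.centralizer ({x} : Set G)) : u ∈ Subgroup.centralizer ({x} : Set G) := by
  letI := Fintype.ofFinite G
  obtain ⟨y, -, hy⟩ := T.exB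
  have hx1 : x ≠ 1 := fun h => by
    rw [h, cix_eq_one.2 (Subgroup.one_mem _)] at hx
    exact T.ha.ne hx
  refine ConjRankThree.isolated hna (Subgroup.centralizer ({y} : Set G)) hx1 (T.cB hna hy).1 (fun w hw hw1 => (T.cB hna hy).2 w hw hw1) ?_ ?_ hu
  · rw [T.card_B hna hy, T.card_A hna hx, T.card_eq hna]
  · rw [T.card_B hna hy, T.card_A hna hx]
    exact T.cop

theorem Tri.cix_involution (hna : ¬ IsMulCommutative G) (T : Tri G a b c) {t : G} (ht : orderOf t = 2) :
    cix t = c := by
  haveI : Fact (Nat.Prime 2) := ⟨Nat.prime_two⟩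
  rcases T.mem t (ne_one_of_two ht) with h | h | h
  · exfalso
    obtain ⟨P, hP⟩ := exists_sylow_le_centralizer (r := 2) (u := t) (fun h2 => T.odd_a hna (h ▸ h2))
    have hz : IsPGroup 2 (Subgroup.zpowers t) := IsPGroup.of_card (n := 1) (by rw [Nat.card_zpowers, ht, pow_one])
    have hnorm : (P : Subgroup G) ≤ Subgroup.normalizer (Subgroup.zpowers t : Set G) := by
      refine le_trans ?_ (Subgroup.centralizer_le_normalizer _)
      intro p hp
      refine Subgroup.mem_centralizer_iff.2 fun z hz => ?_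
      obtain ⟨i, rfl⟩ := hz
      exact ((mem_cent.1 (hP hp)).zpow_right i).eq.symm
    have hsup : IsPGroup 2 ↥((P : Subgroup G) ⊔ Subgroup.zpowers t) :=
      P.isPGroup'.to_sup_of_normal_right' hz hnorm
    have htP : t ∈ (P : Subgroup G) := (P.is_maximal' hsup le_sup_left) ▸
      Subgroup.mem_sup_right (Subgroup.mem_zpowers t)
    obtain ⟨N, hN, hNodd, hNc⟩ := Cfsg.Agent.S0215.result P t ht htP fun g hg => by
      have hg' : g⁻¹ ∈ Subgroup.centralizer ({t} : Set G) :=
        T.isolated hna h (by rw [inv_inv]; exact hP hg)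
      have := mem_cent.1 (inv_mem hg')
      rw [inv_inv] at this
      rw [this.eq, mul_inv_cancel_right]
    rcases hN.eq_bot_or_eq_top with hb | htop
    · refine not_mem_center hna (ne_one_of_two ht) (Subgroup.mem_center_iff.2 fun g => ?_)
      have h1 := Subgroup.mem_bot.1 (hb ▸ hNc g)
      exact (mul_inv_eq_iff_eq_mul.1 (mul_inv_eq_one.1 h1)).symm
    · rw [htop, Subgroup.card_top, Nat.odd_iff] at hNodd
      have : 2 ∣ Nat.card G := ht ▸ orderOf_dvd_natCard t
      omega
  · exact absurd (T.card_B hna h ▸ ht ▸ Subgroup.orderOf_dvd_natCard _ (self_mem t)) (T.odd_a hna)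
  · exact h

/-- An element of class size `c` commuting with an element of coprime order. -/
theorem Tri.minimal (T : Tri G a b c) {v u : G} (hv : cix v = c) (hv1 : v ≠ 1) (h : Commute v u)
    (hc : (orderOf v).Coprime (orderOf u)) :
    Subgroup.centralizer ({v} : Set G) ≤ Subgroup.centralizer ({u} : Set G) := by
  have hd : c ∣ cix (v * u) := hv ▸ Subgroup.index_dvd_of_le (centralizer_mul_le h hc)
  have hcvu : cix (v * u) = c := by
    rcases T.mem _ (mul_ne_one' hc hv1) with h' | h' | h'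
    · exact absurd (Nat.dvd_antisymm T.adc (h' ▸ hd)) T.ne_ac
    · exact absurd (h' ▸ hd) T.not_cb
    · exact h'
  rw [← eq_of_le_cix (centralizer_mul_le h hc) (hcvu.trans hv.symm)]
  exact centralizer_mul_le' h hc

theorem Tri.false (hna : ¬ IsMulCommutative G) (T : Tri G a b c) : False := by
  classical
  haveI : Fact (Nat.Prime 2) := ⟨Nat.prime_two⟩
  obtain ⟨x, hx1, hx⟩ := T.exA
  set H := Subgroup.centralizer ({x} : Set G) with hH
  have hHb : Nat.card H = b := T.card_A hna hx
  have hnc : ¬ IsCyclic G := fun hc => hna ⟨⟨(IsCyclic.commGroup (α := G)).mul_comm⟩⟩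
  obtain ⟨E, hE⟩ := Cfsg.Agent.S0204.result hnc
  have h2b : 2 ∣ b := by
    have h2 : 2 ∣ Nat.card G := (by rw [hE.card_four]; norm_num : 2 ∣ Nat.card E).trans E.card_subgroup_dvd_card
    rw [T.card_eq hna] at h2
    exact (Nat.prime_two.dvd_mul.1 h2).resolve_left (T.odd_a hna)
  have hxodd : ¬ 2 ∣ orderOf x := by
    intro h2
    set t := x ^ (orderOf x / 2) with ht
    have hto : orderOf t = 2 := orderOf_pow_orderOf_div (orderOf_pos x).ne' h2
    have hd : cix t ∣ cix x := cix_pow_dvd x _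
    rw [T.cix_involution hna hto, hx] at hd
    exact T.ne_ac (Nat.dvd_antisymm T.adc hd)
  have hcent : ∀ s ∈ H, orderOf s = 2 → Subgroup.centralizer ({s} : Set G) ≤ H := fun s hs hso =>
    T.minimal (T.cix_involution hna hso) (ne_one_of_two hso) (mem_cent.1 hs)
      (by rw [hso]; exact (Nat.prime_two.coprime_iff_not_dvd).2 hxodd)
  obtain ⟨t, htH, hto⟩ := exists_involution_mem (K := H) (hHb ▸ h2b)
  have htc := T.cix_involution hna hto
  have hCt := hcent t htH hto
  -- conjugates of `t` in `H`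
  set t' : H := ⟨t, htH⟩
  have hJH : cl t ∩ (H : Set G) = H.subtype '' cl t' := by
    ext j
    constructor
    · rintro ⟨hj, hjH⟩
      obtain ⟨g, rfl⟩ := isConj_iff.1 hj
      have h1 : g⁻¹ * x * g ∈ Subgroup.centralizer ({t} : Set G) := by
        have h2 := mem_cent.1 hjH
        rw [mem_cent]
        show g⁻¹ * x * g * t = t * (g⁻¹ * x * g)
        calc g⁻¹ * x * g * t = g⁻¹ * (x * (g * t * g⁻¹)) * g := by group
          _ = g⁻¹ * (g * t * g⁻¹ * x) * g := by rw [h2.eq]
          _ = t * (g⁻¹ * x * g) := by group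
      have hg : g ∈ H := T.isolated hna hx (hCt h1)
      exact ⟨⟨g * t * g⁻¹, hjH⟩, isConj_iff.2 ⟨⟨g, hg⟩, Subtype.ext rfl⟩, rfl⟩
    · rintro ⟨j', hj', rfl⟩
      obtain ⟨g, rfl⟩ := isConj_iff.1 hj'
      exact ⟨isConj_iff.2 ⟨(g : G), rfl⟩, (g * t' * g⁻¹).2⟩
  set n := (cl t ∩ (H : Set G)).ncard with hn
  have hn' : n * a = c := by
    have h1 : n = cix t' := by rw [hn, hJH, Set.ncard_image_of_injective _ H.subtype_injective, ncard_cl]
    have h2 : Subgroup.centralizer ({t'} : Set H) = (Subgroup.centralizer ({t} : Set G)).subgroupOf H := by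
      ext g
      rw [Subgroup.mem_subgroupOf, mem_cent, mem_cent]
      exact ⟨fun hg => congrArg Subtype.val hg.eq, fun hg => Subtype.ext hg⟩
    have h3 := card_mul_cix t'
    rw [← h1, h2, Nat.card_congr (Subgroup.subgroupOfEquivOfLe hCt).toEquiv, hHb] at h3
    have h4 := card_mul_cix t
    rw [htc, T.card_eq hna, ← h3] at h4
    exact Nat.eq_of_mul_eq_mul_left Nat.card_pos (by rw [h4]; ring)
  have hn2 : 2 ≤ n := by
    have hc0 : c ≠ 0 := htc ▸ (cix_pos t).ne'
    by_contra hlt
    rcases (by omega : n = 0 ∨ n = 1) with h | h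
    · rw [h, zero_mul] at hn'
      exact hc0 hn'.symm
    · rw [h, one_mul] at hn'
      exact T.ne_ac hn'
  -- two outside conjugates in one coset
  set J := cl t \ (H : Set G) with hJ
  have hJc : J.ncard + n = c := by
    rw [hJ, hn, add_comm, Set.ncard_inter_add_ncard_diff_eq_ncard _ _ (Set.toFinite _), ncard_cl, htc]
  have hmaps : ∀ s ∈ J, ((s : G ⧸ H)) ∈ (Set.univ \ {((1 : G) : G ⧸ H)} : Set (G ⧸ H)) := by
    intro s hs
    refine ⟨Set.mem_univ _, fun h1 => hs.2 ?_⟩
    have := QuotientGroup.eq.1 (Set.mem_singleton_iff.1 h1)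
    simpa using H.inv_mem this
  have hlt : (Set.univ \ {((1 : G) : G ⧸ H)} : Set (G ⧸ H)).ncard < J.ncard := by
    rw [Set.ncard_diff (Set.subset_univ _) (Set.toFinite _), Set.ncard_univ, Set.ncard_singleton,
      ← Subgroup.index_eq_card, show H.index = a from hx]
    obtain ⟨a', rfl⟩ : ∃ a', a = a' + 2 := ⟨a - 2, by have := T.ha; omega⟩
    have h5 : 2 * (a' + 1) ≤ n * (a' + 1) := Nat.mul_le_mul_right _ hn2
    have h6 : n * (a' + 2) = n * (a' + 1) + n := by ring
    omega
  obtain ⟨s, hs, s', hs', hne, hss⟩ := Set.exists_ne_map_eq_of_ncard_lt_of_maps_to hlt hmaps (Set.toFinite _)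
  have hso : ∀ {r : G}, r ∈ J → orderOf r = 2 := fun {r} hr => by
    obtain ⟨g, rfl⟩ := isConj_iff.1 hr.1
    rw [show g * t * g⁻¹ = MulAut.conj g t from rfl, MulEquiv.orderOf_eq, hto]
  have hsi : s⁻¹ = s := inv_eq_of_mul_eq_one_right (by rw [← pow_two, ← hso hs, pow_orderOf_eq_one])
  have hs'i : s'⁻¹ = s' := inv_eq_of_mul_eq_one_right (by rw [← pow_two, ← hso hs', pow_orderOf_eq_one])
  have hdH : s * s' ∈ H := by
    have := QuotientGroup.eq.1 hss
    rwa [hsi] at this
  set d := s * s' with hd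
  have hsH : s ∉ H := hs.2
  have hd1 : d ≠ 1 := fun h1 => hne (by
    have := eq_inv_of_mul_eq_one_left h1
    rwa [hs'i] at this)
  have hsd : s * d * s⁻¹ = d⁻¹ := by
    rw [hd, mul_inv_rev, hs'i, hsi, ← mul_assoc s s s', show s * s = 1 from by
      rw [← pow_two, ← hso hs, pow_orderOf_eq_one], one_mul]
  have hdodd : ¬ 2 ∣ orderOf d := by
    intro h2
    set w := d ^ (orderOf d / 2) with hw
    have hwo : orderOf w = 2 := orderOf_pow_orderOf_div (orderOf_pos d).ne' h2
    refine hsH (hcent w (pow_mem hdH _) hwo (mem_cent.2 ?_))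
    have h1 : s * w * s⁻¹ = w := by
      rw [hw, ← conj_pow, hsd, inv_pow, ← hw]
      exact inv_eq_of_mul_eq_one_right (by rw [← pow_two, ← hwo, pow_orderOf_eq_one])
    exact mul_inv_eq_iff_eq_mul.1 h1
  have hdx : Commute x d := (mem_cent.1 hdH).symm
  rcases T.mem d hd1 with hdt | hdt | hdt
  · have h1 : s ∈ Subgroup.centralizer ({d} : Set G) := by
      refine T.isolated hna hdt ?_
      rw [hsi]
      nth_rewrite 2 [← hsi]
      rw [hsd, mem_cent]
      exact (Commute.refl d).inv_left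
    have h2 : d⁻¹ = d := by rw [← hsd, (mem_cent.1 h1).eq, mul_inv_cancel_right]
    have h3 : orderOf d ∣ 2 := orderOf_dvd_of_pow_eq_one (by
      rw [pow_two]
      nth_rewrite 1 [← h2]
      exact inv_mul_cancel d)
    rcases (Nat.dvd_prime Nat.prime_two).1 h3 with h4 | h4
    · exact hd1 (orderOf_eq_one_iff.1 h4)
    · exact hdodd (by rw [h4])
  · exact T.not_commute hna hx hdt hdx
  · obtain ⟨w, hw, hwo⟩ := exists_involution_mem (K := Subgroup.centralizer ({d} : Set G)) (by
      have h1 := card_mul_cix d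
      rw [hdt, ← card_mul_cix t, htc] at h1
      rw [Nat.eq_of_mul_eq_mul_right (Nat.pos_of_ne_zero (htc ▸ (cix_pos t).ne')) h1]
      exact hto ▸ Subgroup.orderOf_dvd_natCard _ (self_mem t))
    have hCeq : ∀ v, v ∈ Subgroup.centralizer ({d} : Set G) → orderOf v = 2 →
        Subgroup.centralizer ({d} : Set G) = Subgroup.centralizer ({v} : Set G) ∧ v ∈ H := by
      intro v hv hvo
      have hle := T.minimal hdt hd1 (mem_cent.1 hv).symm
        (by rw [hvo]; exact ((Nat.prime_two.coprime_iff_not_dvd).2 hdodd).symm)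
      refine ⟨eq_of_le_cix hle (hdt.trans (T.cix_involution hna hvo).symm), mem_cent.2 ?_⟩
      exact (mem_cent.1 (hle (mem_cent.2 hdx))).symm
    obtain ⟨hCw, hwH⟩ := hCeq w hw hwo
    set w' := s * w * s⁻¹ with hw'
    have hw'd : w' ∈ Subgroup.centralizer ({d} : Set G) := by
      have h1 : Commute w d⁻¹ := (mem_cent.1 hw).inv_right
      rw [mem_cent]
      have h2 : s * d⁻¹ * s⁻¹ = d := by rw [← conj_inv, hsd, inv_inv]
      show s * w * s⁻¹ * d = d * (s * w * s⁻¹)
      nth_rewrite 1 [← h2]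
      nth_rewrite 2 [← h2]
      calc s * w * s⁻¹ * (s * d⁻¹ * s⁻¹) = s * (w * d⁻¹) * s⁻¹ := by group
        _ = s * (d⁻¹ * w) * s⁻¹ := by rw [h1.eq]
        _ = s * d⁻¹ * s⁻¹ * (s * w * s⁻¹) := by group
    have hw'o : orderOf w' = 2 := by
      rw [hw', show s * w * s⁻¹ = MulAut.conj s w from rfl, MulEquiv.orderOf_eq, hwo]
    by_cases hfix : w' = w
    · refine hsH (hcent w hwH hwo (mem_cent.2 ?_))
      exact mul_inv_eq_iff_eq_mul.1 hfix
    have hcomm : Commute w' w := mem_cent.1 (hCw ▸ hw'd)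
    have hww : w * w = 1 := by rw [← pow_two, ← hwo, pow_orderOf_eq_one]
    have hw'w : w' * w' = 1 := by rw [← pow_two, ← hw'o, pow_orderOf_eq_one]
    set v := w * w' with hv
    have hvo : orderOf v = 2 := by
      refine orderOf_eq_prime ?_ fun h1 => hfix ?_
      · rw [hv, hcomm.symm.mul_pow, pow_two, pow_two, hww, hw'w, mul_one]
      · have := eq_inv_of_mul_eq_one_left h1
        rw [inv_eq_of_mul_eq_one_right hw'w] at this
        exact this.symm
    obtain ⟨-, hvH⟩ := hCeq v (mul_mem hw hw'd) hvo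
    refine hsH (hcent v hvH hvo (mem_cent.2 ?_))
    have hsw' : s * w' * s⁻¹ = w := by
      rw [hw', hsi]
      have hs2 : s * s = 1 := by rw [← pow_two, ← hso hs, pow_orderOf_eq_one]
      calc s * (s * w * s) * s = (s * s) * w * (s * s) := by group
        _ = w := by rw [hs2, one_mul, mul_one]
    have h1 : s * v * s⁻¹ = v := by
      calc s * (w * w') * s⁻¹ = (s * w * s⁻¹) * (s * w' * s⁻¹) := by group
        _ = w' * w := by rw [← hw', hsw']
        _ = w * w' := hcomm.eq
    exact mul_inv_eq_iff_eq_mul.1 h1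

/-- In the incomparable case involution centralisers are abelian. -/
theorem anti_abelian (hna : ¬ IsMulCommutative G) (hA : Anti G) {t : G} (ht : orderOf t = 2) :
    IsMulCommutative ↥(Subgroup.centralizer ({t} : Set G)) := by
  classical
  haveI : Fact (Nat.Prime 2) := ⟨Nat.prime_two⟩
  have heq : ∀ {u v : G}, u ≠ 1 → v ≠ 1 →
      Subgroup.centralizer ({u} : Set G) ≤ Subgroup.centralizer ({v} : Set G) →
      Subgroup.centralizer ({u} : Set G) = Subgroup.centralizer ({v} : Set G) := fun hu hv hle =>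
    eq_of_le_cix hle (hA _ _ hv hu (Subgroup.index_dvd_of_le hle)).symm
  have key : ∀ {p q : G}, p ≠ 1 → q ≠ 1 → Commute p q → (orderOf p).Coprime (orderOf q) →
      Subgroup.centralizer ({p} : Set G) = Subgroup.centralizer ({q} : Set G) := fun {p q} hp hq h hc => by
    rw [← heq (mul_ne_one' hc hp) hp (centralizer_mul_le h hc),
      ← heq (mul_ne_one' hc hp) hq (centralizer_mul_le' h hc)]
  -- a centraliser of an involution is a `2`-group or abelian
  have dich : ∀ s : G, orderOf s = 2 → IsPGroup 2 (Subgroup.centralizer ({s} : Set G)) ∨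
      IsMulCommutative ↥(Subgroup.centralizer ({s} : Set G)) := by
    intro s hs
    set C := Subgroup.centralizer ({s} : Set G) with hC
    by_cases hall : ∀ g ∈ C, ∀ r : ℕ, r.Prime → r ∣ orderOf g → r = 2
    · left
      intro g
      have h := Nat.eq_prime_pow_of_unique_prime_dvd (orderOf_pos (g : G)).ne' fun {r} hr hd => hall g g.2 r hr hd
      exact ⟨_, Subtype.ext (by rw [SubmonoidClass.coe_pow, ← h, pow_orderOf_eq_one, Subgroup.coe_one])⟩
    · right
      push Not at hall
      obtain ⟨g, hg, r, hr, hrg, hr2⟩ := hall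
      set p := g ^ (orderOf g / r) with hp
      have hpo : orderOf p = r := orderOf_pow_orderOf_div (orderOf_pos g).ne' hrg
      have hp1 : p ≠ 1 := fun h => hr.ne_one (by rw [← hpo, h, orderOf_one])
      have hpC : p ∈ C := pow_mem hg _
      have hCp : Subgroup.centralizer ({p} : Set G) = C :=
        key hp1 (ne_one_of_two hs) (mem_cent.1 hpC)
          (by rw [hpo, hs]; exact (Nat.coprime_primes hr Nat.prime_two).2 hr2)
      have hcentral : ∀ z ∈ C, z ∈ Subgroup.centralizer (C : Set G) := by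
        intro z hz
        refine mem_of_primary _ fun j q k hq hjk => ?_
        by_cases h1 : z ^ j = 1
        · rw [h1]; exact one_mem _
        have hzC : z ^ j ∈ C := pow_mem hz j
        have hCz : Subgroup.centralizer ({z ^ j} : Set G) = C := by
          by_cases hq2 : q = 2
          · refine (key h1 hp1 ?_ ?_).trans hCp
            · exact mem_cent.1 (hCp.symm ▸ hzC)
            · rw [hjk, hpo, hq2]
              exact ((Nat.coprime_primes Nat.prime_two hr).2 (Ne.symm hr2)).pow_left k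
          · refine key h1 (ne_one_of_two hs) (mem_cent.1 hzC) ?_
            rw [hjk, hs]
            exact ((Nat.coprime_primes hq Nat.prime_two).2 hq2).pow_left k
        refine Subgroup.mem_centralizer_iff.2 fun w hw => ?_
        exact (mem_cent.1 (hCz.symm ▸ hw : w ∈ Subgroup.centralizer ({z ^ j} : Set G))).eq
      exact ⟨⟨fun u v => Subtype.ext (Subgroup.mem_centralizer_iff.1 (hcentral u u.2) v v.2).symm⟩⟩
  rcases dich t ht with h2 | hab
  swap
  · exact hab
  obtain ⟨P, htP⟩ := h2.exists_le_sylow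
  suffices hP : IsMulCommutative ↥(P : Subgroup G) by
    exact ⟨⟨fun u v => Subtype.ext (congrArg Subtype.val (hP.is_comm.comm ⟨u, htP u.2⟩ ⟨v, htP v.2⟩) :)⟩⟩
  by_contra hP
  -- every involution has a Sylow subgroup as centraliser
  have hodd : ∀ s : G, orderOf s = 2 → ¬ 2 ∣ cix s := by
    intro s hs
    have hz2 : IsPGroup 2 (Subgroup.zpowers s) := IsPGroup.of_card (n := 1) (by rw [Nat.card_zpowers, hs, pow_one])
    obtain ⟨Q, hsQ⟩ := hz2.exists_le_sylow
    have hsQ' : s ∈ (Q : Subgroup G) := hsQ (Subgroup.mem_zpowers s)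
    have hne : (Q : Subgroup G) ≠ ⊥ := fun h => ne_one_of_two hs (Subgroup.mem_bot.1 (h ▸ hsQ'))
    haveI : Nontrivial (Q : Subgroup G) := (Subgroup.nontrivial_iff_ne_bot _).2 hne
    haveI := Q.isPGroup'.center_nontrivial
    obtain ⟨k, hk, hck⟩ :=
      (Q.isPGroup'.to_subgroup (Subgroup.center (Q : Subgroup G))).nontrivial_iff_card.1 inferInstance
    obtain ⟨z₀, hz₀⟩ := exists_prime_orderOf_dvd_card' (G := Subgroup.center (Q : Subgroup G)) 2
      (by rw [hck]; exact dvd_pow_self 2 hk.ne')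
    set z : G := ((z₀ : (Q : Subgroup G)) : G) with hz
    have hzo : orderOf z = 2 := by rw [hz, Subgroup.orderOf_coe, Subgroup.orderOf_coe, hz₀]
    have hQz : (Q : Subgroup G) ≤ Subgroup.centralizer ({z} : Set G) := fun q hq =>
      mem_cent.2 (congrArg Subtype.val (Subgroup.mem_center_iff.1 z₀.2 ⟨q, hq⟩))
    have hQna : ¬ IsMulCommutative ↥(Q : Subgroup G) := by
      intro hQ
      refine hP ?_
      obtain ⟨g, hg⟩ := MulAction.exists_smul_eq G Q P
      have e := (Q.equiv P : ↥(Q : Subgroup G) ≃* ↥(P : Subgroup G))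
      exact ⟨⟨fun u v => e.symm.injective (by rw [map_mul, map_mul]; exact hQ.is_comm.comm _ _)⟩⟩
    have hzQ : Subgroup.centralizer ({z} : Set G) = (Q : Subgroup G) := by
      rcases dich z hzo with h2z | habz
      · exact Q.is_maximal' h2z hQz
      · exact absurd ⟨⟨fun u v => Subtype.ext (congrArg Subtype.val
          (habz.is_comm.comm ⟨u, hQz u.2⟩ ⟨v, hQz v.2⟩) :)⟩⟩ hQna
    have hs2 : IsPGroup 2 (Subgroup.centralizer ({s} : Set G)) := by
      rcases dich s hs with h | h
      · exact h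
      · have hzs : z ∈ Subgroup.centralizer ({s} : Set G) :=
          mem_cent.2 (mem_cent.1 (hQz hsQ')).symm
        refine Q.isPGroup'.to_le (hzQ ▸ fun u hu => mem_cent.2 ?_)
        exact congrArg Subtype.val (h.is_comm.comm ⟨u, hu⟩ ⟨z, hzs⟩)
    have hdvd : Nat.card (Subgroup.centralizer ({s} : Set G)) ∣ Nat.card (Subgroup.centralizer ({z} : Set G)) := by
      obtain ⟨R, hR⟩ := hs2.exists_le_sylow
      rw [hzQ, Nat.card_congr (Q.equiv R).toEquiv]
      exact Subgroup.card_dvd_of_le hR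
    have hix : cix z ∣ cix s := by
      obtain ⟨k, hk⟩ := hdvd
      refine ⟨k, ?_⟩
      have h1 := card_mul_cix s
      rw [← card_mul_cix z, hk] at h1
      refine Nat.eq_of_mul_eq_mul_left (Nat.card_pos (α := Subgroup.centralizer ({s} : Set G))) ?_
      rw [h1]
      ring
    rw [show cix s = cix z from (hA z s (ne_one_of_two hzo) (ne_one_of_two hs) hix).symm, cix, hzQ]
    exact Q.not_dvd_index
  refine hP (Cfsg.Agent.S4355.result (fun w hw => ?_) P)
  obtain ⟨k, hk⟩ := hw
  by_cases hw1 : w = 1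
  · subst hw1
    rw [Subgroup.index_eq_one.2 (by simp [Subgroup.centralizer_eq_top_iff_subset])]
    omega
  have hk0 : k ≠ 0 := fun h => hw1 (orderOf_eq_one_iff.1 (by rw [hk, h, pow_zero]))
  set s := w ^ (orderOf w / 2) with hs
  have hso : orderOf s = 2 := orderOf_pow_orderOf_div (orderOf_pos w).ne' (by rw [hk]; exact dvd_pow_self 2 hk0)
  rw [heq hw1 (ne_one_of_two hso) (centralizer_le_pow w _)]
  exact hodd s hso

end Cfsg.Agent.Transfer.ConjRankThree
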