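import Cfsg.Agent.Lib.Transfer.ClassDisconnected

/-!
Simple groups with three class sizes: either the sizes are pairwise incomparable, or two of them are coprime
and the group order is their product.
-/

set_option autoImplicit false
set_option maxHeartbeats 1000000

open scoped Pointwise

universe u

namespace Cfsg.Agent.Transfer.ConjRankThree

open Cfsg Cfsg.Agent Cfsg.Agent.Transfer.ClassDisconnected

variable {G : Type u} [Group G] [Finite G]

/-- Among the class sizes none properly divides another. -/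
def Anti (G : Type u) [Group G] : Prop :=
  ∀ u v : G, u ≠ 1 → v ≠ 1 → (Subgroup.centralizer ({u} : Set G)).index ∣ (Subgroup.centralizer ({v} : Set G)).index →
    (Subgroup.centralizer ({u} : Set G)).index = (Subgroup.centralizer ({v} : Set G)).index

/-- Three sizes, two coprime and the first dividing the third. -/
structure Tri (G : Type u) [Group G] (a b c : ℕ) : Prop where
  mem : ∀ w : G, w ≠ 1 → cix w = a ∨ cix w = b ∨ cix w = c
  exA : ∃ w : G, w ≠ 1 ∧ cix w = a
  exB : ∃ w : G, w ≠ 1 ∧ cix w = b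
  cop : a.Coprime b
  adc : a ∣ c
  ne_ac : a ≠ c
  ha : 1 < a
  hb : 1 < b
  not_cb : ¬ c ∣ b

theorem card_mul_cix (w : G) : Nat.card (Subgroup.centralizer ({w} : Set G)) * cix w = Nat.card G :=
  (Subgroup.centralizer ({w} : Set G)).card_mul_index

theorem mem_cent {g w : G} : g ∈ Subgroup.centralizer ({w} : Set G) ↔ Commute g w :=
  Subgroup.mem_centralizer_singleton_iff

theorem self_mem (w : G) : w ∈ Subgroup.centralizer ({w} : Set G) := mem_cent.2 (Commute.refl w)

theorem eq_of_le_cix {u v : G} (h : Subgroup.centralizer ({u} : Set G) ≤ Subgroup.centralizer ({v} : Set G))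
    (he : cix u = cix v) : Subgroup.centralizer ({u} : Set G) = Subgroup.centralizer ({v} : Set G) := by
  refine Subgroup.eq_of_le_of_card_ge h (le_of_eq ?_)
  have h1 := card_mul_cix u
  rw [← card_mul_cix v, he] at h1
  exact (Nat.eq_of_mul_eq_mul_right (cix_pos v) h1).symm

theorem centralizer_mul_le {u v : G} (h : Commute u v) (hc : (orderOf u).Coprime (orderOf v)) :
    Subgroup.centralizer ({u * v} : Set G) ≤ Subgroup.centralizer ({u} : Set G) := by
  obtain ⟨m, hm⟩ := Nat.chineseRemainder hc 1 0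
  have hp : (u * v) ^ m = u := by
    rw [h.mul_pow, (pow_eq_pow_iff_modEq.2 hm.1 : u ^ m = u ^ 1), (pow_eq_pow_iff_modEq.2 hm.2 : v ^ m = v ^ 0),
      pow_one, pow_zero, mul_one]
  have := centralizer_le_pow (u * v) m
  rwa [hp] at this

theorem centralizer_mul_le' {u v : G} (h : Commute u v) (hc : (orderOf u).Coprime (orderOf v)) :
    Subgroup.centralizer ({u * v} : Set G) ≤ Subgroup.centralizer ({v} : Set G) :=
  h.eq ▸ centralizer_mul_le h.symm hc.symm

theorem mul_ne_one' {u v : G} (hc : (orderOf u).Coprime (orderOf v)) (hu : u ≠ 1) : u * v ≠ 1 := by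
  intro h1
  rw [eq_inv_of_mul_eq_one_left h1, orderOf_inv] at hc
  rw [Nat.coprime_self] at hc
  exact hu (by rw [eq_inv_of_mul_eq_one_left h1, orderOf_eq_one_iff.1 hc, inv_one])

theorem cix_inv (w : G) : cix w⁻¹ = cix w := by
  refine congrArg Subgroup.index ?_
  ext g
  rw [mem_cent, mem_cent, Commute.inv_right_iff]

theorem cix_conj (g w : G) : cix (g * w * g⁻¹) = cix w := by
  rw [← ncard_cl, ← ncard_cl w]
  have h : IsConj w (g * w * g⁻¹) := isConj_iff.2 ⟨g, rfl⟩
  exact congrArg Set.ncard (Set.ext fun y => ⟨fun hy => h.trans hy, fun hy => h.symm.trans hy⟩)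

variable [IsSimpleGroup G]

theorem not_mem_center (hna : ¬ IsMulCommutative G) {w : G} (hw : w ≠ 1) : w ∉ Subgroup.center G :=
  fun h => hna ⟨⟨Char.comm_of_central_ne_one hw h⟩⟩

theorem cix_ne_one (hna : ¬ IsMulCommutative G) {w : G} (hw : w ≠ 1) : cix w ≠ 1 :=
  fun h => not_mem_center hna hw (cix_eq_one.1 h)

theorem card_not_prime (hna : ¬ IsMulCommutative G) : ¬ (Nat.card G).Prime := by
  intro h
  haveI : Fact (Nat.card G).Prime := ⟨h⟩
  haveI := isCyclic_of_prime_card (α := G) rfl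
  exact hna ⟨⟨IsCyclic.commGroup.mul_comm⟩⟩

theorem normalClosure_eq_top {s : Set G} {g : G} (hg : g ∈ s) (hg1 : g ≠ 1) :
    Subgroup.normalClosure s = ⊤ := by
  rcases (Subgroup.normalClosure_normal : (Subgroup.normalClosure s).Normal).eq_bot_or_eq_top with h | h
  · exact absurd (Subgroup.mem_bot.1 (h ▸ Subgroup.subset_normalClosure hg)) hg1
  · exact h

theorem exists_central (r : ℕ) [Fact r.Prime] (hr : r ∣ Nat.card G) :
    ∃ (P : Sylow r G) (z : G), z ∈ (P : Subgroup G) ∧ orderOf z = r ∧ (∀ q ∈ (P : Subgroup G), Commute q z) ∧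
      ¬ r ∣ cix z := by
  obtain ⟨P⟩ : Nonempty (Sylow r G) := inferInstance
  haveI : Nontrivial (P : Subgroup G) := (Subgroup.nontrivial_iff_ne_bot _).2 (P.ne_bot_of_dvd_card hr)
  haveI := P.isPGroup'.center_nontrivial
  obtain ⟨k, hk, hck⟩ := (P.isPGroup'.to_subgroup (Subgroup.center (P : Subgroup G))).nontrivial_iff_card.1 inferInstance
  obtain ⟨z, hz⟩ := exists_prime_orderOf_dvd_card' (G := Subgroup.center (P : Subgroup G)) r
    (by rw [hck]; exact dvd_pow_self r hk.ne')
  have hcom : ∀ q ∈ (P : Subgroup G), Commute q ((z : (P : Subgroup G)) : G) := fun q hq =>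
    congrArg Subtype.val (Subgroup.mem_center_iff.1 z.2 ⟨q, hq⟩)
  refine ⟨P, z, z.1.2, by rw [Subgroup.orderOf_coe, Subgroup.orderOf_coe, hz], hcom, fun h => P.not_dvd_index ?_⟩
  exact h.trans (Subgroup.index_dvd_of_le fun q hq => mem_cent.2 (hcom q hq))

/-- The case division. -/
theorem anti_or_tri (hna : ¬ IsMulCommutative G)
    (h3 : Set.ncard {m : ℕ | ∃ w : G, w ≠ 1 ∧ m = cix w} = 3) :
    Anti G ∨ ∃ a b c : ℕ, Tri G a b c := by
  set I := {m : ℕ | ∃ w : G, w ≠ 1 ∧ m = cix w} with hI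
  by_cases hA : Anti G
  · exact Or.inl hA
  refine Or.inr ?_
  simp only [Anti, not_forall] at hA
  obtain ⟨u, v, hu, hv, hd, hne⟩ := hA
  have huI : cix u ∈ I := ⟨u, hu, rfl⟩
  have hvI : cix v ∈ I := ⟨v, hv, rfl⟩
  have hfin : I.Finite := Set.finite_of_ncard_ne_zero (by omega)
  have h1 : (I \ {cix u, cix v}).ncard = 1 := by
    rw [Set.ncard_diff (Set.insert_subset huI (Set.singleton_subset_iff.2 hvI)) (Set.toFinite _),
      Set.ncard_pair hne, h3]
  obtain ⟨b, hb⟩ := Set.ncard_eq_one.1 h1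
  have hbI : b ∈ I := ((Set.ext_iff.1 hb b).2 rfl).1
  obtain ⟨w, hw, hwb⟩ := hbI
  have hmem : ∀ z : G, z ≠ 1 → cix z = cix u ∨ cix z = b ∨ cix z = cix v := by
    intro z hz
    by_cases hc : cix z ∈ ({cix u, cix v} : Set ℕ)
    · rcases hc with h | h
      · exact Or.inl h
      · exact Or.inr (Or.inr h)
    · exact Or.inr (Or.inl ((Set.ext_iff.1 hb _).1 ⟨⟨z, hz, rfl⟩, hc⟩))
  have hcop : (cix u).Coprime b := by
    refine Nat.coprime_of_dvd fun r hr h1 h2 => ?_
    haveI := Fact.mk hr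
    obtain ⟨-, z, -, hz, -, hnd⟩ := exists_central r (h1.trans (Subgroup.index_dvd_card _))
    rcases hmem z (fun h => hr.ne_one (by rw [← hz, h, orderOf_one])) with h | h | h
    · exact hnd (h ▸ h1)
    · exact hnd (h ▸ h2)
    · exact hnd (h ▸ h1.trans hd)
  have hu1 : 1 < cix u := by
    have := cix_pos u
    have := cix_ne_one hna hu
    omega
  refine ⟨cix u, b, cix v, hmem, ⟨u, hu, rfl⟩, ⟨w, hw, hwb.symm⟩, hcop, hd, hne, hu1, ?_, fun h => ?_⟩
  · have := cix_pos w
    have := cix_ne_one hna hw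
    omega
  · have : cix u = 1 := Nat.dvd_one.1 (hcop ▸ Nat.dvd_gcd dvd_rfl (hd.trans h))
    omega

variable {a b c : ℕ}

theorem Tri.ne_ab (T : Tri G a b c) : a ≠ b := fun h => by
  have := T.cop
  rw [h, Nat.coprime_self] at this
  exact (T.hb.ne' this)

theorem Tri.ne_cb (T : Tri G a b c) : c ≠ b := fun h => T.not_cb (h ▸ dvd_rfl)

theorem Tri.cix_mul (hna : ¬ IsMulCommutative G) (T : Tri G a b c) {x y : G} (hx : cix x = a)
    (hy : cix y = b) : cix (x * y) = c ∧ c ∣ a * b := by
  have hco : (cix x).Coprime (cix y) := by rw [hx, hy]; exact T.cop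
  have hxy : x * y ≠ 1 := fun h => T.ne_ab (by
    rw [← hx, ← hy, eq_inv_of_mul_eq_one_left h, cix_inv])
  have aux : ∀ {p q : G}, (cix p).Coprime (cix q) → 1 < cix p → 1 < cix q → cix (p * q) ≠ cix q := by
    intro p q hpq hp hq he
    have hd := card_normalClosure_dvd hpq he
    obtain ⟨g, hg⟩ : ∃ g : G, p⁻¹ * (g * p * g⁻¹) ≠ 1 := by
      by_contra hc
      push Not at hc
      refine hp.ne' (cix_eq_one.2 (Subgroup.mem_center_iff.2 fun g => ?_))
      exact mul_inv_eq_iff_eq_mul.1 (inv_mul_eq_one.1 (hc g)).symm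
    rw [normalClosure_eq_top (Set.mem_range_self g) hg, Subgroup.card_top] at hd
    have h1 := card_mul_cix q
    have h2 : Nat.card (Subgroup.centralizer ({q} : Set G)) ∣ 1 :=
      Nat.dvd_of_mul_dvd_mul_right (cix_pos q) (by rw [h1, one_mul]; exact hd)
    have h3 : Subgroup.centralizer ({q} : Set G) = ⊥ := Subgroup.eq_bot_of_card_eq _ (Nat.dvd_one.1 h2)
    have h4 : q = 1 := Subgroup.mem_bot.1 (h3 ▸ self_mem q)
    rw [h4, cix_eq_one.2 (Subgroup.one_mem _)] at hq
    omega
  have h1 : cix (x * y) ≠ b := hy ▸ aux hco (hx ▸ T.ha) (hy ▸ T.hb)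
  have h2 : cix (x * y) ≠ a := by
    have h3 : cix (y * x) = cix (x * y) := by
      rw [← cix_conj x (y * x)]
      congr 1
      group
    rw [← h3, ← hx]
    exact aux hco.symm (hy ▸ T.hb) (hx ▸ T.ha)
  have h4 : cix (x * y) = c := ((T.mem _ hxy).resolve_left h2).resolve_left h1
  refine ⟨h4, ?_⟩
  rw [← h4, ← hx, ← hy]
  exact cix_mul_dvd hco

theorem Tri.c_dvd (hna : ¬ IsMulCommutative G) (T : Tri G a b c) : c ∣ a * b := by
  obtain ⟨x, -, hx⟩ := T.exA
  obtain ⟨y, -, hy⟩ := T.exB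
  exact (T.cix_mul hna hx hy).2

theorem Tri.not_commute (hna : ¬ IsMulCommutative G) (T : Tri G a b c) {x y : G} (hx : cix x = a)
    (hy : cix y = b) : ¬ Commute x y := by
  intro hxy
  have hco : (cix x).Coprime (cix y) := by rw [hx, hy]; exact T.cop
  have hy1 : y ≠ 1 := fun h => by
    rw [h, cix_eq_one.2 (Subgroup.one_mem _)] at hy
    exact T.hb.ne hy
  have hall : Subgroup.normalClosure ({y} : Set G) ≤ Subgroup.centralizer ({x} : Set G) := by
    rw [Subgroup.normalClosure, Subgroup.closure_le]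
    intro z hz
    obtain ⟨y', hy', hc⟩ := Group.mem_conjugatesOfSet_iff.1 hz
    rw [Set.mem_singleton_iff] at hy'
    subst hy'
    obtain ⟨g, rfl⟩ := isConj_iff.1 hc
    obtain ⟨p, hp, q, hq, rfl⟩ := Grp.HallConv.exists_mul_of_coprime hco.symm g
    rw [mem_cent] at hp hq
    rw [SetLike.mem_coe, mem_cent, show p * q * y' * (p * q)⁻¹ = p * (q * y' * q⁻¹) * p⁻¹ by group,
      hq.eq, mul_inv_cancel_right]
    exact (hp.mul_left hxy.symm).mul_left hp.inv_left
  rw [normalClosure_eq_top (Set.mem_singleton y) hy1] at hall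
  have h1 : cix x = 1 := Subgroup.index_eq_one.2 (top_le_iff.1 hall)
  have := T.ha
  omega

theorem Tri.c_ne_mul (hna : ¬ IsMulCommutative G) (T : Tri G a b c) : c ≠ a * b := by
  intro he
  obtain ⟨x, -, hx⟩ := T.exA
  obtain ⟨y, -, hy⟩ := T.exB
  have hco : (cix x).Coprime (cix y) := by rw [hx, hy]; exact T.cop
  set D := Subgroup.centralizer ({x} : Set G) ⊓ Subgroup.centralizer ({y} : Set G) with hD
  have hle : D ≤ Subgroup.centralizer ({x * y} : Set G) := fun g hg =>
    mem_cent.2 ((mem_cent.1 hg.1).mul_right (mem_cent.1 hg.2))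
  have hi : D.index = c := by
    rw [hD, Grp.HallConv.index_inf_of_coprime hco, he]
    show cix x * cix y = _
    rw [hx, hy]
  have heq : D = Subgroup.centralizer ({x * y} : Set G) := by
    refine Subgroup.eq_of_le_of_card_ge hle (le_of_eq ?_)
    have h1 := card_mul_cix (x * y)
    rw [← D.card_mul_index, hi, (T.cix_mul hna hx hy).1] at h1
    exact Nat.eq_of_mul_eq_mul_right (Nat.pos_of_ne_zero (hi ▸ Subgroup.index_ne_zero_of_finite)) h1
  have hm : x * y ∈ D := heq ▸ self_mem (x * y)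
  refine T.not_commute hna hx hy ?_
  have hxy : Commute (x * y) x := mem_cent.1 hm.1
  have h2 : x * (y * x) = x * (x * y) := by rw [← mul_assoc, hxy.eq]
  exact (mul_left_cancel h2).symm

theorem Tri.typeA_r (T : Tri G a b c) {r : ℕ} [Fact r.Prime] (hr : r ∣ a) {z : G} (hz : z ≠ 1)
    (h : ¬ r ∣ cix z) : cix z = b := by
  rcases T.mem z hz with h' | h' | h'
  · exact absurd (h' ▸ hr) h
  · exact h'
  · exact absurd (h' ▸ hr.trans T.adc) h

/-- `a` is prime to the order of the centraliser of an element of class size `a`. -/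
theorem Tri.coprime_card (hna : ¬ IsMulCommutative G) (T : Tri G a b c) {x : G} (hx : cix x = a) :
    a.Coprime (Nat.card (Subgroup.centralizer ({x} : Set G))) := by
  refine Nat.coprime_of_dvd fun r hr h1 h2 => ?_
  haveI := Fact.mk hr
  set H := Subgroup.centralizer ({x} : Set G) with hH
  obtain ⟨Q₀⟩ : Nonempty (Sylow r H) := inferInstance
  set Q := (Q₀ : Subgroup H).map H.subtype with hQ
  have hQp : IsPGroup r Q := Q₀.isPGroup'.map _
  obtain ⟨P, hQP⟩ := hQp.exists_le_sylow
  obtain ⟨P', z₀, hz₀, hz₀o, hz₀c, hz₀d⟩ := exists_central r (h1.trans (by rw [← hx]; exact Subgroup.index_dvd_card _))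
  obtain ⟨g, hg⟩ := MulAction.exists_smul_eq G P' P
  set z := g * z₀ * g⁻¹ with hz
  have hzP : z ∈ (P : Subgroup G) := by
    rw [← hg]
    show z ∈ MulAut.conj g • (P' : Subgroup G)
    rw [Frob.mem_smul_conj_iff, hz]
    simpa [mul_assoc] using hz₀
  have hzc : ∀ q ∈ (P : Subgroup G), Commute q z := by
    intro q hq
    rw [← hg] at hq
    obtain ⟨q', hq', rfl⟩ := exists_of_mem_smul hq
    show g * q' * g⁻¹ * (g * z₀ * g⁻¹) = g * z₀ * g⁻¹ * (g * q' * g⁻¹)
    calc g * q' * g⁻¹ * (g * z₀ * g⁻¹) = g * (q' * z₀) * g⁻¹ := by group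
      _ = g * (z₀ * q') * g⁻¹ := by rw [(hz₀c q' hq').eq]
      _ = g * z₀ * g⁻¹ * (g * q' * g⁻¹) := by group
  have hzb : cix z = b := by
    rw [hz, cix_conj]
    exact T.typeA_r h1 (fun h => hr.ne_one (by rw [← hz₀o, h, orderOf_one])) hz₀d
  haveI : Nontrivial Q := (Subgroup.nontrivial_iff_ne_bot _).2 (by
    rw [hQ, Ne, Subgroup.map_eq_bot_iff_of_injective _ H.subtype_injective]
    exact Q₀.ne_bot_of_dvd_card h2)
  haveI := hQp.center_nontrivial
  obtain ⟨⟨⟨v, hvQ⟩, hvc⟩, hv1⟩ := exists_ne (1 : Subgroup.center Q)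
  have hv1' : v ≠ 1 := fun h => hv1 (Subtype.ext (Subtype.ext h))
  have hvH : Commute v x := mem_cent.1 (Subgroup.map_subtype_le _ hvQ)
  have hcv : cix v = c := by
    rcases T.mem v hv1' with h | h | h
    · exact absurd (hzc v (hQP hvQ)) (T.not_commute hna h hzb)
    · exact absurd hvH.symm (T.not_commute hna hx h)
    · exact h
  -- the `r`-parts
  set C := Subgroup.centralizer ({v} : Set G) with hC
  obtain ⟨k, hk⟩ := T.adc
  have hk0 : k ≠ 0 := fun h => by
    rw [h, mul_zero] at hk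
    exact (cix_pos v).ne' (hcv.trans hk)
  have hkb : k ∣ b := by
    have := T.c_dvd hna
    rw [hk] at this
    exact Nat.dvd_of_mul_dvd_mul_left (by have := T.ha; omega) this
  have hrk : ¬ r ∣ k := fun h => hr.ne_one
    (Nat.eq_one_of_dvd_coprimes T.cop h1 (h.trans hkb))
  have hfac : (Nat.card C).factorization r = (Nat.card H).factorization r := by
    have e1 : Nat.card C * k = Nat.card H := by
      have h3 := card_mul_cix v
      rw [← card_mul_cix x, hx, hcv, hk] at h3
      have : 0 < a := by have := T.ha; omega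
      refine Nat.eq_of_mul_eq_mul_right this ?_
      rw [mul_assoc, mul_comm k a]
      exact h3
    rw [← e1, Nat.factorization_mul Nat.card_pos.ne' hk0, Finsupp.add_apply,
      Nat.factorization_eq_zero_of_not_dvd hrk, add_zero]
  have hQC : Q ≤ C ⊓ (P : Subgroup G) := fun q hq => ⟨mem_cent.2 (congrArg Subtype.val
    (Subgroup.mem_center_iff.1 hvc ⟨q, hq⟩)), hQP hq⟩
  have hzC : z ∈ C ⊓ (P : Subgroup G) := ⟨mem_cent.2 (hzc v (hQP hvQ)).symm, hzP⟩
  obtain ⟨j, hj⟩ := IsPGroup.iff_card.1 ((P.isPGroup'.to_le inf_le_right : IsPGroup r ↥(C ⊓ (P : Subgroup G))))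
  have hjle : j ≤ (Nat.card C).factorization r :=
    (hr.pow_dvd_iff_le_factorization Nat.card_pos.ne').1
      (hj ▸ Subgroup.card_dvd_of_le inf_le_left)
  have hQcard : Nat.card Q = r ^ (Nat.card H).factorization r := by
    rw [hQ, Subgroup.card_map_of_injective H.subtype_injective, Q₀.card_eq_multiplicity]
  have heq : Q = C ⊓ (P : Subgroup G) := by
    refine Subgroup.eq_of_le_of_card_ge hQC ?_
    rw [hQcard, hj, ← hfac]
    exact Nat.pow_le_pow_right hr.pos hjle
  exact T.not_commute hna hx hzb (mem_cent.1 (Subgroup.map_subtype_le _ (heq ▸ hzC))).symm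

/-- The order of the group. -/
theorem Tri.card_eq (hna : ¬ IsMulCommutative G) (T : Tri G a b c) : Nat.card G = a * b := by
  obtain ⟨x, -, hx⟩ := T.exA
  obtain ⟨r, hr, hra⟩ := Nat.exists_prime_and_dvd (by have := T.ha; omega : a ≠ 1)
  haveI := Fact.mk hr
  obtain ⟨P, y, hyP, hyo, -, hyd⟩ := exists_central r (hra.trans (by rw [← hx]; exact Subgroup.index_dvd_card _))
  have hy : cix y = b := T.typeA_r hra (fun h => hr.ne_one (by rw [← hyo, h, orderOf_one])) hyd
  have hco : (cix x).Coprime (cix y) := by rw [hx, hy]; exact T.cop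
  have hD : Subgroup.centralizer ({x} : Set G) ⊓ Subgroup.centralizer ({y} : Set G) = ⊥ := by
    refine (Subgroup.eq_bot_iff_forall _).2 fun v hv => by_contra fun hv1 => ?_
    have hvx := mem_cent.1 hv.1
    have hvy := mem_cent.1 hv.2
    have hcv : cix v = c := by
      rcases T.mem v hv1 with h | h | h
      · exact absurd hvy (T.not_commute hna h hy)
      · exact absurd hvx.symm (T.not_commute hna hx h)
      · exact h
    have h1 : r ∣ Nat.card (Subgroup.centralizer ({v} : Set G)) :=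
      hyo ▸ Subgroup.orderOf_dvd_natCard _ (mem_cent.2 hvy.symm)
    obtain ⟨k, hk⟩ := T.adc
    have h2 : Nat.card (Subgroup.centralizer ({v} : Set G)) * k =
        Nat.card (Subgroup.centralizer ({x} : Set G)) := by
      have h3 := card_mul_cix v
      rw [← card_mul_cix x, hx, hcv, hk] at h3
      have : 0 < a := by have := T.ha; omega
      refine Nat.eq_of_mul_eq_mul_right this ?_
      rw [mul_assoc, mul_comm k a]
      exact h3
    exact hr.ne_one (Nat.eq_one_of_dvd_coprimes (T.coprime_card hna hx) hra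
      (h2 ▸ h1.mul_right k))
  have h := Grp.HallConv.index_inf_of_coprime hco
  rw [hD, Subgroup.index_bot] at h
  rw [h]
  show cix x * cix y = _
  rw [hx, hy]

theorem Tri.card_A (hna : ¬ IsMulCommutative G) (T : Tri G a b c) {x : G} (hx : cix x = a) :
    Nat.card (Subgroup.centralizer ({x} : Set G)) = b := by
  have h := card_mul_cix x
  rw [hx, T.card_eq hna, mul_comm a b] at h
  exact Nat.eq_of_mul_eq_mul_right (by have := T.ha; omega) h

theorem Tri.card_B (hna : ¬ IsMulCommutative G) (T : Tri G a b c) {y : G} (hy : cix y = b) :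
    Nat.card (Subgroup.centralizer ({y} : Set G)) = a := by
  have h := card_mul_cix y
  rw [hy, T.card_eq hna] at h
  exact Nat.eq_of_mul_eq_mul_right (by have := T.hb; omega) h

theorem Tri.card_C_dvd (hna : ¬ IsMulCommutative G) (T : Tri G a b c) {v : G} (hv : cix v = c) :
    Nat.card (Subgroup.centralizer ({v} : Set G)) ∣ b := by
  obtain ⟨k, hk⟩ := T.adc
  refine ⟨k, ?_⟩
  have h := card_mul_cix v
  rw [hv, T.card_eq hna, hk] at h
  have : 0 < a := by have := T.ha; omega
  refine Nat.eq_of_mul_eq_mul_left this ?_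
  rw [← h]
  ring

/-- Nontrivial elements of the centraliser of an element of class size `b` have class size `b`. -/
theorem Tri.typeB (hna : ¬ IsMulCommutative G) (T : Tri G a b c) {w : G} (hw : w ≠ 1)
    (ho : orderOf w ∣ a) : cix w = b := by
  have h0 := Subgroup.orderOf_dvd_natCard _ (self_mem w)
  have h1 : orderOf w ≠ 1 := fun h => hw (orderOf_eq_one_iff.1 h)
  rcases T.mem w hw with h | h | h
  · rw [T.card_A hna h] at h0
    exact absurd (Nat.eq_one_of_dvd_coprimes T.cop ho h0) h1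
  · exact h
  · exact absurd (Nat.eq_one_of_dvd_coprimes T.cop ho (h0.trans (T.card_C_dvd hna h))) h1

/-- The centraliser of an element of class size `b` is abelian and is the centraliser of each of its
nontrivial elements. -/
theorem Tri.cB (hna : ¬ IsMulCommutative G) (T : Tri G a b c) {y : G} (hy : cix y = b) :
    (∀ p ∈ Subgroup.centralizer ({y} : Set G), ∀ q ∈ Subgroup.centralizer ({y} : Set G), p * q = q * p) ∧
    ∀ w ∈ Subgroup.centralizer ({y} : Set G), w ≠ 1 →
      Subgroup.centralizer ({w} : Set G) = Subgroup.centralizer ({y} : Set G) := by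
  set R := Subgroup.centralizer ({y} : Set G) with hR
  have hRa : Nat.card R = a := T.card_B hna hy
  have htype : ∀ w ∈ R, w ≠ 1 → cix w = b := fun w hw hw1 =>
    T.typeB hna hw1 (hRa ▸ R.orderOf_dvd_natCard hw)
  have hy1 : y ≠ 1 := fun h => by
    rw [h, cix_eq_one.2 (Subgroup.one_mem _)] at hy
    exact T.hb.ne hy
  obtain ⟨r, hr, hry⟩ := Nat.exists_prime_and_dvd (fun h => hy1 (orderOf_eq_one_iff.1 h) : orderOf y ≠ 1)
  haveI := Fact.mk hr
  set y₀ := y ^ (orderOf y / r) with hy₀
  have hy₀o : orderOf y₀ = r := orderOf_pow_orderOf_div (orderOf_pos y).ne' hry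
  have hy₀1 : y₀ ≠ 1 := fun h => hr.ne_one (by rw [← hy₀o, h, orderOf_one])
  have hy₀R : y₀ ∈ R := pow_mem (self_mem y) _
  have hC₀ : Subgroup.centralizer ({y₀} : Set G) = R :=
    (eq_of_le_cix (centralizer_le_pow y _) (hy.trans (htype _ hy₀R hy₀1).symm)).symm
  have key : ∀ p q : G, p ≠ 1 → q ≠ 1 → Subgroup.centralizer ({p} : Set G) = R → q ∈ R →
      (orderOf p).Coprime (orderOf q) → Subgroup.centralizer ({q} : Set G) = R := by
    intro p q hp hq hpR hqR hc
    have hpm : p ∈ R := hpR ▸ self_mem p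
    have hcom : Commute p q := (mem_cent.1 (hpR.symm ▸ hqR)).symm
    have hpq : cix (p * q) = b := htype _ (mul_mem hpm hqR) (mul_ne_one' hc hp)
    rw [← eq_of_le_cix (centralizer_mul_le' hcom hc) (hpq.trans (htype q hqR hq).symm),
      eq_of_le_cix (centralizer_mul_le hcom hc) (hpq.trans (htype p hpm hp).symm), hpR]
  obtain ⟨s, hs, hsa, hsr⟩ : ∃ s : ℕ, s.Prime ∧ s ∣ a ∧ s ≠ r := by
    by_contra hc
    push Not at hc
    have ha : a = r ^ a.primeFactorsList.length :=
      Nat.eq_prime_pow_of_unique_prime_dvd (by have := T.ha; omega) fun {q} hq hqa => hc q hq hqa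
    obtain ⟨x, hx1, hx⟩ := T.exA
    exact card_not_prime hna (Char.simple_prime_pow_class r _ hr x hx1 (show cix x = _ from hx.trans ha))
  haveI := Fact.mk hs
  obtain ⟨⟨w₀, hw₀R⟩, hw₀o⟩ := exists_prime_orderOf_dvd_card' (G := R) s (hRa.symm ▸ hsa)
  rw [Subgroup.orderOf_mk] at hw₀o
  have hw₀1 : w₀ ≠ 1 := fun h => hs.ne_one (by rw [← hw₀o, h, orderOf_one])
  have hCw : Subgroup.centralizer ({w₀} : Set G) = R := key y₀ w₀ hy₀1 hw₀1 hC₀ hw₀R
    (by rw [hy₀o, hw₀o]; exact (Nat.coprime_primes hr hs).2 hsr.symm)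
  have hcentral : ∀ g ∈ R, g ∈ Subgroup.centralizer (R : Set G) := by
    intro g hg
    refine mem_of_primary _ fun j q k hq hjk => ?_
    by_cases h1 : g ^ j = 1
    · rw [h1]; exact one_mem _
    have hgR : g ^ j ∈ R := pow_mem hg j
    have hCg : Subgroup.centralizer ({g ^ j} : Set G) = R := by
      by_cases hqr : q = r
      · refine key w₀ _ hw₀1 h1 hCw hgR ?_
        rw [hw₀o, hjk, hqr]
        exact ((Nat.coprime_primes hs hr).2 hsr).pow_right k
      · refine key y₀ _ hy₀1 h1 hC₀ hgR ?_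
        rw [hy₀o, hjk]
        exact ((Nat.coprime_primes hr hq).2 (Ne.symm hqr)).pow_right k
    refine Subgroup.mem_centralizer_iff.2 fun p hp => ?_
    exact (mem_cent.1 (hCg.symm ▸ hp : p ∈ Subgroup.centralizer ({g ^ j} : Set G))).eq
  have hab : ∀ p ∈ R, ∀ q ∈ R, p * q = q * p := fun p hp q hq =>
    (Subgroup.mem_centralizer_iff.1 (hcentral p hp) q hq).symm
  refine ⟨hab, fun w hw hw1 => (Subgroup.eq_of_le_of_card_ge (fun p hp => mem_cent.2 (hab p hp w hw)) ?_).symm⟩
  rw [hRa, T.card_B hna (htype w hw hw1)]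

end Cfsg.Agent.Transfer.ConjRankThree
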